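import Cfsg.Agent.Helper19.SchM12.Tab

set_option autoImplicit false
set_option linter.all false
set_option maxRecDepth 1000000
set_option maxHeartbeats 0

namespace Cfsg.Agent.Helper19.SchM12

theorem okT0 : OKT (0 * 20000) 20000 := by decide +kernel
theorem okF0 : OKF [1, 1, 1, 1, 2, 1, 1, 1, 1, 2, 1, 1, 1, 1, 2] 703 77890117696175985887464359198735360 := by decide +kernel
theorem okF1 : OKF [2, 2] 2706 10384672868465384594346201757779968 := by decide +kernel
theorem okF2 : OKF [2, 2] 3753 10374531895776135531270529630603264 := by decide +kernel
theorem okF3 : OKF [2, 2] 6047 10389743586922585885635552013322240 := by decide +kernel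

end Cfsg.Agent.Helper19.SchM12
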