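import Mathlib
import Cfsg.Agent.Helper19.TCR.Lab
import Cfsg.Agent.Helper19.SchM12.Chk0
import Cfsg.Agent.Helper19.SchM12.Chk1
import Cfsg.Agent.Helper19.SchM12.Chk2
import Cfsg.Agent.Helper19.SchM12.Chk3
import Cfsg.Agent.Helper19.SchM12.ChkT

set_option autoImplicit false
set_option linter.all false
set_option maxRecDepth 1000000
set_option maxHeartbeats 0

namespace Cfsg.Agent.Helper19.SchM12

open Cfsg.Agent.Helper19.TCS Cfsg.Agent.Helper19.TCL

theorem okR_all : ∀ p, p < 12 → OKR (p * 720) 720 := by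
  intro p hp
  interval_cases p
  · exact okR0
  · exact okR1
  · exact okR2
  · exact okR3
  · exact okR4
  · exact okR5
  · exact okR6
  · exact okR7
  · exact okR8
  · exact okR9
  · exact okR10
  · exact okR11

theorem okT_all : ∀ p, p < 1 → OKT (p * 20000) 20000 := by
  intro p hp
  interval_cases p
  · exact okT0

theorem okAll : ∀ i l, i < 8640 → l < 4 → OKE i l := by
  intro i l hi hl
  have hp : i / 720 < 12 := by omega
  have h1 : i / 720 * 720 ≤ i := Nat.div_mul_le_self i 720
  have h2 : i < i / 720 * 720 + 720 := by omega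
  exact okRowsL_spec (i / 720 * 720) 720 (okR_all (i / 720) hp) i h1 h2 hi l hl

theorem treeAll : ∀ j, 0 < j → j < 8640 → parF j < j := by
  intro j h0 hj
  have hp : j / 20000 < 1 := by omega
  have h1 : j / 20000 * 20000 ≤ j := Nat.div_mul_le_self j 20000
  have h2 : j < j / 20000 * 20000 + 20000 := by omega
  exact okTree_spec (j / 20000 * 20000) 20000 (okT_all (j / 20000) hp) j h1 h2 h0 hj

theorem rotsF_ok : ∀ r, r < 18 → rotsF r = rotL.getD r ([], 0, 0) := by
  have h : (List.range 18).all (fun r => rotsF r == rotL.getD r ([], 0, 0)) = true := by decide +kernel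
  intro r hr
  have := forall_lt_of_all h r hr
  exact beq_iff_eq.mp this

theorem rotL_ok : (List.range 18).all (fun r =>
    rotOKL 4 subs.length 7 131072 2048 1024 rels (rotL.getD r ([], 0, 0)) (rotIdx.getD r (0, 0))) = true := by
  decide +kernel

theorem subL_ok : (List.range subL.length).all (fun s =>
    subOKL 4 7 131072 2048 1024 subs (subL.getD s ([], 0, [], 0)) (subIdx.getD s 0)) = true := by
  decide +kernel

theorem subsF_ok : ∀ s, (subsF s).2.1 < 4 → s < subL.length ∧ subsF s = subL.getD s ([], 0, [], 0) := by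
  intro s hs
  unfold subsF at hs ⊢
  by_cases h : s < subL.length
  · refine ⟨h, ?_⟩
    rw [List.getD_eq_getElem _ _ h, List.getD_eq_getElem _ _ h]
  · rw [List.getD_eq_default _ _ (not_lt.mp h)] at hs
    simp at hs

/-- the labelled table is closed, for any group with generators `gc` whose relator values are central. -/
theorem closedL {Γ : Type*} [Group Γ] {C : Type*} [CommGroup C] (gc : ℕ → Γ) (ι : C →* Γ) (gen : ℕ → C)
    (hinv : ∀ l, l < 4 → gc (invF l) = (gc l)⁻¹)
    (hrels : ∀ ρ, ρ < rels.length → prodw gc (rels.getD ρ []) = ι (gen (subs.length + ρ)) ∧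
      ∀ g : Γ, Commute (prodw gc (rels.getD ρ [])) g)
    (hsubs : ∀ s, s < subs.length → prodw gc (subs.getD s []) = ι (gen s)) :
    SemL 8640 4 32768 7 131072 2048 1024 5192336472918318521463551928828928 invF 18 rotsF subsF gc ι gen ∧
      ∀ i l, i < 8640 → l < 4 → FactL gc ι gen 8640 16384 17179869184 7 131072 2048 1024 ent parF pletF i l := by
  have S : SemL 8640 4 32768 7 131072 2048 1024 5192336472918318521463551928828928 invF 18 rotsF subsF gc ι gen :=
    semL_of_data rels subs rotL rotIdx subL subIdx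
      (by intro l hl; interval_cases l <;> decide) hinv (by norm_num) (by norm_num) (by norm_num)
      (by decide +kernel) (by norm_num) (by norm_num) rotsF_ok rotL_ok hrels subsF_ok subL_ok hsubs
  exact ⟨S, closed_of_okL S treeAll okAll⟩


theorem face0 {Γ : Type*} [Group Γ] {C : Type*} [CommGroup C] (gc : ℕ → Γ) (ι : C →* Γ) (gen : ℕ → C)
    (hinv : ∀ l, l < 4 → gc (invF l) = (gc l)⁻¹)
    (hrels : ∀ ρ, ρ < rels.length → prodw gc (rels.getD ρ []) = ι (gen (subs.length + ρ)) ∧
      ∀ g : Γ, Commute (prodw gc (rels.getD ρ [])) g)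
    (hsubs : ∀ s, s < subs.length → prodw gc (subs.getD s []) = ι (gen s)) :
    ι (gen (subs.length + 3)) = ι (dsem gen 1024 15 0 [15360, 15360, 15355, 15360, 15361, 15360, 15361]) := by
  obtain ⟨S, hcl⟩ := closedL gc ι gen hinv hrels hsubs
  have hw : [1, 1, 1, 1, 2, 1, 1, 1, 1, 2, 1, 1, 1, 1, 2] = (rels.getD 3 []).rotate 1 := by decide
  obtain ⟨h1, h2⟩ := hrels 3 (by decide)
  have hcen : ∀ g : Γ, Commute (prodw gc [1, 1, 1, 1, 2, 1, 1, 1, 1, 2, 1, 1, 1, 1, 2]) g := by
    rw [hw, prodw_rotate_central h2]; exact h2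
  have h3 := face_spec S hcl (w := [1, 1, 1, 1, 2, 1, 1, 1, 1, 2, 1, 1, 1, 1, 2]) (b := 703) (expected := 77890117696175985887464359198735360) (by norm_num) (by decide) (by norm_num)
    [15360, 15360, 15355, 15360, 15361, 15360, 15361] (by decide) (by decide) (by decide +kernel) hcen okF0
  rw [← h1, ← prodw_rotate_central h2 1, ← hw]
  exact h3


theorem face1 {Γ : Type*} [Group Γ] {C : Type*} [CommGroup C] (gc : ℕ → Γ) (ι : C →* Γ) (gen : ℕ → C)
    (hinv : ∀ l, l < 4 → gc (invF l) = (gc l)⁻¹)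
    (hrels : ∀ ρ, ρ < rels.length → prodw gc (rels.getD ρ []) = ι (gen (subs.length + ρ)) ∧
      ∀ g : Γ, Commute (prodw gc (rels.getD ρ [])) g)
    (hsubs : ∀ s, s < subs.length → prodw gc (subs.getD s []) = ι (gen s)) :
    ι (gen (subs.length + 1)) = ι (dsem gen 1024 2 0 [2048, 2048, 2046, 2051, 2048, 2046, 2048]) := by
  obtain ⟨S, hcl⟩ := closedL gc ι gen hinv hrels hsubs
  have hw : [2, 2] = (rels.getD 1 []).rotate 0 := by decide
  obtain ⟨h1, h2⟩ := hrels 1 (by decide)
  have hcen : ∀ g : Γ, Commute (prodw gc [2, 2]) g := by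
    rw [hw, prodw_rotate_central h2]; exact h2
  have h3 := face_spec S hcl (w := [2, 2]) (b := 2706) (expected := 10384672868465384594346201757779968) (by norm_num) (by decide) (by norm_num)
    [2048, 2048, 2046, 2051, 2048, 2046, 2048] (by decide) (by decide) (by decide +kernel) hcen okF1
  rw [← h1, ← prodw_rotate_central h2 0, ← hw]
  exact h3


theorem face2 {Γ : Type*} [Group Γ] {C : Type*} [CommGroup C] (gc : ℕ → Γ) (ι : C →* Γ) (gen : ℕ → C)
    (hinv : ∀ l, l < 4 → gc (invF l) = (gc l)⁻¹)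
    (hrels : ∀ ρ, ρ < rels.length → prodw gc (rels.getD ρ []) = ι (gen (subs.length + ρ)) ∧
      ∀ g : Γ, Commute (prodw gc (rels.getD ρ [])) g)
    (hsubs : ∀ s, s < subs.length → prodw gc (subs.getD s []) = ι (gen s)) :
    ι (gen (subs.length + 1)) = ι (dsem gen 1024 2 0 [2048, 2048, 2047, 2050, 2044, 2052, 2046]) := by
  obtain ⟨S, hcl⟩ := closedL gc ι gen hinv hrels hsubs
  have hw : [2, 2] = (rels.getD 1 []).rotate 0 := by decide
  obtain ⟨h1, h2⟩ := hrels 1 (by decide)
  have hcen : ∀ g : Γ, Commute (prodw gc [2, 2]) g := by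
    rw [hw, prodw_rotate_central h2]; exact h2
  have h3 := face_spec S hcl (w := [2, 2]) (b := 3753) (expected := 10374531895776135531270529630603264) (by norm_num) (by decide) (by norm_num)
    [2048, 2048, 2047, 2050, 2044, 2052, 2046] (by decide) (by decide) (by decide +kernel) hcen okF2
  rw [← h1, ← prodw_rotate_central h2 0, ← hw]
  exact h3


theorem face3 {Γ : Type*} [Group Γ] {C : Type*} [CommGroup C] (gc : ℕ → Γ) (ι : C →* Γ) (gen : ℕ → C)
    (hinv : ∀ l, l < 4 → gc (invF l) = (gc l)⁻¹)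
    (hrels : ∀ ρ, ρ < rels.length → prodw gc (rels.getD ρ []) = ι (gen (subs.length + ρ)) ∧
      ∀ g : Γ, Commute (prodw gc (rels.getD ρ [])) g)
    (hsubs : ∀ s, s < subs.length → prodw gc (subs.getD s []) = ι (gen s)) :
    ι (gen (subs.length + 1)) = ι (dsem gen 1024 2 0 [2048, 2045, 2053, 2045, 2046, 2049, 2049]) := by
  obtain ⟨S, hcl⟩ := closedL gc ι gen hinv hrels hsubs
  have hw : [2, 2] = (rels.getD 1 []).rotate 0 := by decide
  obtain ⟨h1, h2⟩ := hrels 1 (by decide)
  have hcen : ∀ g : Γ, Commute (prodw gc [2, 2]) g := by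
    rw [hw, prodw_rotate_central h2]; exact h2
  have h3 := face_spec S hcl (w := [2, 2]) (b := 6047) (expected := 10389743586922585885635552013322240) (by norm_num) (by decide) (by norm_num)
    [2048, 2045, 2053, 2045, 2046, 2049, 2049] (by decide) (by decide) (by decide +kernel) hcen okF3
  rw [← h1, ← prodw_rotate_central h2 0, ← hw]
  exact h3

end Cfsg.Agent.Helper19.SchM12
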