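import Mathlib

import Cfsg.Agent.Helper19.SchM12.Facts
import Cfsg.Agent.Helper19.Schur.Cover

/-! The Schur multiplier of `M₁₂` is cyclic of order two: the instance of the labelled
Todd–Coxeter pipeline on helper27's generators of the dodecad stabiliser `H12`. -/

set_option autoImplicit false
set_option linter.all false
set_option maxRecDepth 100000

namespace Cfsg.Agent.Helper19.SchM12

open Cfsg Cfsg.Agent.Helper19.TCS Cfsg.Agent.Helper19.TCL
  Cfsg.Agent.Helper19.Schur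

universe u

/-! ### The upper bound -/

theorem invF_eq : ∀ l, l < 4 → invF l = inv4 l := by
  intro l hl
  interval_cases l <;> rfl

theorem prodw_replicate {Δ : Type*} [Group Δ] (gc : ℕ → Δ) (l n : ℕ) :
    prodw gc (List.replicate n l) = gc l ^ n := by
  induction n with
  | zero => simp [prodw]
  | succ n ih => rw [List.replicate_succ, prodw, ih, pow_succ]

theorem hcen_of_trivial {Δ : Type u} [Group Δ] (a b : Δ)
    (h : ∀ w ∈ rels, prodw (gc2 a b) w = 1) :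
    ∀ ρ g, Commute (prodw (gc2 a b) (rels.getD ρ [])) g := by
  intro ρ g
  have : prodw (gc2 a b) (rels.getD ρ []) = 1 :=
    forall_getD_of_forall_mem (fun w => prodw (gc2 a b) w = 1) rels [] h rfl ρ
  rw [this]
  exact Commute.one_left g

theorem closedL' {Δ : Type u} [Group Δ] (a b : Δ)
    (hcen : ∀ ρ g, Commute (prodw (gc2 a b) (rels.getD ρ [])) g) :
    SemL 8640 4 32768 7 131072 2048 1024 5192336472918318521463551928828928 invF 18 rotsF subsF
        (gc2 a b) (iotaC (gfam a b rels 7) (gfam_comm a b rels 7 hcen)) (genC 7) ∧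
      ∀ i l, i < 8640 → l < 4 →
        FactL (gc2 a b) (iotaC (gfam a b rels 7) (gfam_comm a b rels 7 hcen)) (genC 7)
          8640 16384 17179869184 7 131072 2048 1024 ent parF pletF i l :=
  closedL (gc2 a b) _ (genC 7) (gc2_invF a b invF invF_eq)
    (bridge_rels a b rels 7 (by decide) hcen) (bridge_subs a b rels 7 (by norm_num) hcen)

theorem hT1 (Δ : Type u) [Group Δ] (a b : Δ)
    (hgen : Subgroup.closure {a, b} = (⊤ : Subgroup Δ))
    (hrel : ∀ w ∈ rels, prodw (gc2 a b) w = 1) : Finite Δ ∧ Nat.card Δ ≤ 95040 := by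
  have hcen := hcen_of_trivial a b hrel
  obtain ⟨S, hcl⟩ := closedL' a b hcen
  have ha : a ^ 11 = 1 := by
    have h1 := hrel (List.replicate 11 0) (by decide)
    rw [prodw_replicate] at h1
    exact h1
  have hι : ∀ c, iotaC (gfam a b rels 7) (gfam_comm a b rels 7 hcen) c ∈ Subgroup.zpowers a := by
    intro c
    apply iotaC_mem
    intro i
    unfold gfam
    split_ifs with h
    · exact Subgroup.mem_zpowers a
    · have : prodw (gc2 a b) (rels.getD ((i : ℕ) - 1) []) = 1 :=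
        forall_getD_of_forall_mem (fun w => prodw (gc2 a b) w = 1) rels [] hrel rfl _
      rw [this]
      exact one_mem _
  have := card_le_of_factL a b hgen _ (genC 7) S hcl 11 (by norm_num) ha hι
  exact this

/-- the relations among the relator symbols found by the four faces. -/
def lam : Fin 4 → Fin 7 → ℤ :=
  ![![0, 0, -5, 0, 0, 0, 1], ![0, 0, -3, 3, 0, -2, 0], ![0, 0, -2, 2, -4, 4, -2],
    ![0, -3, 4, -3, -2, 1, 1]]

theorem hT2 (Δ : Type u) [Group Δ] (a b : Δ)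
    (hcen : ∀ ρ g, Commute (prodw (gc2 a b) (rels.getD ρ [])) g) (j : Fin 4) :
    Psi (gfam a b rels 7) (gfam_comm a b rels 7 hcen) (lam j) = 1 := by
  have hinv := gc2_invF a b invF invF_eq
  have hrels := bridge_rels a b rels 7 (by decide) hcen
  have hsubs := bridge_subs a b rels 7 (by norm_num) hcen
  fin_cases j
  · exact psi_eq_one_of_face _ _ 1024 15 [15360, 15360, 15355, 15360, 15361, 15360, 15361] rfl
      ⟨4, by norm_num⟩ _ (face0 (gc2 a b) _ (genC 7) hinv hrels hsubs) (by decide)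
  · exact psi_eq_one_of_face _ _ 1024 2 [2048, 2048, 2046, 2051, 2048, 2046, 2048] rfl
      ⟨2, by norm_num⟩ _ (face1 (gc2 a b) _ (genC 7) hinv hrels hsubs) (by decide)
  · exact psi_eq_one_of_face _ _ 1024 2 [2048, 2048, 2047, 2050, 2044, 2052, 2046] rfl
      ⟨2, by norm_num⟩ _ (face2 (gc2 a b) _ (genC 7) hinv hrels hsubs) (by decide)
  · exact psi_eq_one_of_face _ _ 1024 2 [2048, 2045, 2053, 2045, 2046, 2049, 2049] rfl
      ⟨2, by norm_num⟩ _ (face3 (gc2 a b) _ (genC 7) hinv hrels hsubs) (by decide)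

/-! ### The lattice data -/

def e1 : Fin 7 → ℤ := ![0, 11, 0, -6, -12, -9, 0]
def e2 : Fin 7 → ℤ := ![0, 0, 2, 6, 3, 6, 10]
def c1 : Fin 7 → ℤ := ![0, -1, 6, -2, 0, 0, 0]
def c2 : Fin 7 → ℤ := ![0, -12, 71, -24, 1, 0, 0]
def g0 : Fin 7 → ℤ := ![0, -6, 24, -7, -2, 0, 0]

theorem he1 : ∀ c : Fin 7, e1 c = if (c : ℕ) = 0 then 0 else es0 (rels.getD ((c : ℕ) - 1) []) := by
  decide

theorem he2 : ∀ c : Fin 7, e2 c = if (c : ℕ) = 0 then 0 else es1 (rels.getD ((c : ℕ) - 1) []) := by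
  decide

theorem Efun_eq (e v : Fin 7 → ℤ) : Efun e v =
    v 0 * e 0 + v 1 * e 1 + v 2 * e 2 + v 3 * e 3 + v 4 * e 4 + v 5 * e 5 + v 6 * e 6 := by
  unfold Efun
  rw [Fin.sum_univ_seven]

theorem hc1 : (∀ c : Fin 7, (c : ℕ) = 0 → c1 c = 0) ∧ Efun e1 c1 = 1 ∧ Efun e2 c1 = 0 := by
  refine ⟨by decide, ?_, ?_⟩ <;> rw [Efun_eq] <;> decide

theorem hc2 : (∀ c : Fin 7, (c : ℕ) = 0 → c2 c = 0) ∧ Efun e1 c2 = 0 ∧ Efun e2 c2 = 1 := by
  refine ⟨by decide, ?_, ?_⟩ <;> rw [Efun_eq] <;> decide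

theorem hg0 : ∀ c : Fin 7, (c : ℕ) = 0 → g0 c = 0 := by decide

theorem hL1 : ∀ v : Fin 7 → ℤ, (∀ c : Fin 7, (c : ℕ) = 0 → v c = 0) → Efun e1 v = 0 →
    Efun e2 v = 0 → ∃ (cf : Fin 4 → ℤ) (t : ℤ), v = ∑ j, cf j • lam j + t • g0 := by
  intro v h0 h1 h2
  have h0' : v 0 = 0 := h0 0 rfl
  rw [Efun_eq] at h1 h2
  simp only [e1, e2, Matrix.cons_val_zero, Matrix.cons_val_one, Matrix.cons_val] at h1 h2
  refine ⟨![(-2) * v 1 + 2 * v 3 - v 4 - 3 * v 5 + v 6,
      2 * v 1 + v 2 + 2 * v 3 - v 4 + v 5 + 5 * v 6,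
      4 * v 1 - 2 * v 3 - 5 * v 4 - 4 * v 5,
      (-1) * v 1 + 3 * v 4 + 4 * v 5],
    4 * v 1 + v 2 + v 3 - 4 * v 4 - 2 * v 5 + 5 * v 6, ?_⟩
  funext c
  rw [Fin.sum_univ_four]
  fin_cases c <;>
    simp [lam, g0] <;> omega

theorem hL2 : ∃ cf : Fin 4 → ℤ, ((2 : ℕ) : ℤ) • g0 = ∑ j, cf j • lam j := by
  refine ⟨![-6, 0, -1, 4], ?_⟩
  funext c
  rw [Fin.sum_univ_four]
  fin_cases c <;> simp [lam, g0]

end Cfsg.Agent.Helper19.SchM12
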