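import Mathlib
import Cfsg.Agent.Helper27.M12Out
import Cfsg.Agent.Helper19.SchM12.Inst
import Cfsg.Agent.Helper19.SchM12.MFacts
import Cfsg.Agent.Helper19.Schur.Table
import Cfsg.Agent.Helper19.Schur.GolayTbl

/-! The Schur multiplier of `M₁₂` is cyclic of order two: relators in helper27's `H12`, and the final
statement. -/

set_option autoImplicit false
set_option linter.all false
set_option maxRecDepth 100000

namespace Cfsg.Agent.Helper19.SchM12

open Cfsg Cfsg.Agent.Helper27 Cfsg.Agent.Helper19.TCS Cfsg.Agent.Helper19.TCL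
  Cfsg.Agent.Helper19.TCM Cfsg.Agent.Helper19.Schur

/-! ### The relators hold in `H12` -/

theorem m12yP_inv_rep : Represents (m12yP⁻¹ : Equiv.Perm GolayPt) m12Y :=
  represents_inv_of_compT m12yP_rep m12Y_valid (by decide +kernel)

theorem relsT_ok : rels.all (fun w => prodT y11T m12Xi m12Y m12Y w == idT) = true := by
  decide +kernel

theorem hrelP : ∀ w ∈ rels, prodw (gc2 m12xP m12yP) w = 1 := by
  intro w hw
  have h := List.all_eq_true.mp relsT_ok w hw
  have h1 := represents_prodw m12xP_rep m12xP_inv_rep m12yP_rep m12yP_inv_rep w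
  rw [beq_iff_eq.mp h] at h1
  exact represents_inj h1 represents_one

theorem hrelG : ∀ w ∈ rels, prodw (gc2 m12xG m12yG) w = 1 := by
  intro w hw
  apply Subtype.ext
  have h := map_prodw H12.subtype m12xG m12yG w
  rw [Subgroup.coe_subtype] at h
  rw [h]
  exact hrelP w hw

/-! ### The model data -/

def c1m : Fin 7 → ℤ := ![0, 11, 12, -12, 16, 0, 0]
def c2m : Fin 7 → ℤ := ![0, -66, -73, 73, -97, 0, 0]

theorem relsM_eq : relsM = rels := by decide

/-- the Schur multiplier of helper27's `H12 ≅ M₁₂` is cyclic of order two. -/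
theorem schur_H12 : Cfsg.HasCyclicSchurMultiplier ↥H12 2 := by
  have hcard : Nat.card ↥H12 = 95040 := card_H12
  haveI : Finite ↥H12 := Nat.finite_of_card_ne_zero (by rw [hcard]; norm_num)
  have hT1' : ∀ (Δ : Type) [Group Δ] (a b : Δ), Subgroup.closure {a, b} = (⊤ : Subgroup Δ) →
      (∀ w ∈ rels, prodw (gc2 a b) w = 1) → Finite Δ ∧ Nat.card Δ ≤ Nat.card ↥H12 := by
    intro Δ _ a b h1 h2
    rw [hcard]
    exact hT1 Δ a b h1 h2
  have hM := relsM_ok
  rw [relsM_eq] at hM
  refine ⟨?_, ?_⟩
  · exact exists_stem_of_table m12xG m12yG H12_closure rels hT1' hrelG modelOK (by norm_num) phisM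
      (by decide) (by decide) hM 7 e1 e2 c1m c2m he1 he2
      (by constructor <;> rw [Efun_eq] <;> decide) (by constructor <;> rw [Efun_eq] <;> decide)
      (by rw [Fin.sum_univ_seven]; decide) (by rw [Fin.sum_univ_seven]; decide) [1] (by decide)
  · exact exists_surjective_of_stem m12xG m12yG H12_closure rels 7 (by decide) hrelG hT1' 4 lam hT2
      e1 e2 he1 he2 c1 c2 g0 2 hc1 hc2 hg0 hL1 hL2

/-- the Schur multiplier of `M₁₂` is cyclic of order two. -/
theorem schur_M12 : Cfsg.HasCyclicSchurMultiplier ↥Cfsg.Spor.M12 2 := by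
  obtain ⟨e⟩ := nonempty_sporM12_equiv_H12
  exact hasSchurMultiplier_of_mulEquiv e.symm schur_H12

end Cfsg.Agent.Helper19.SchM12
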